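import Cfsg.Agent.H520.RC.SpId
import Mathlib.RingTheory.AdjoinRoot
import Mathlib.RingTheory.Trace.Basic
import Mathlib.FieldTheory.Finite.Basic

/-!
# S3510, row D (symplectic groups), box D5 (helper236)

* `exists_bk` : the transfer form: `K ⊇ F` finite fields, `B` an `F`-form on the `K`-space `V` with
  `B (k u) v = B u (k v)`; then `B = Tr ∘ C` with `C` `K`-bilinear; `nalt_bk` : `C` is alternating nondegenerate;
* `jk : Sp C →* Sp B`, with image the elements of `Sp B` commuting with `K`;
* `m_rule_field` : M-rule for `Sp C`;  `m_rule_K` : the same for `K = F[θ]` (box D5).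
-/

set_option autoImplicit false
open Cfsg

namespace Cfsg.Agent.H236.RC.D5

open MulAction Module Cfsg.Agent.H106.RC Cfsg.Agent.H520.RC

section field

variable {F K V : Type*} [Field F] [Finite F] [Field K] [Finite K] [Algebra F K] [AddCommGroup V]
  [Module F V] [Module K V] [IsScalarTower F K V] {B : LinearMap.BilinForm F V}

omit [Finite K] in
theorem tr_ext [FiniteDimensional F K] {a b : K}
    (h : ∀ k, Algebra.trace F K (k * a) = Algebra.trace F K (k * b)) : a = b := by
  have h1 := traceForm_nondegenerate F K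
  have h2 : ∀ n, Algebra.traceForm F K (a - b) n = 0 := by
    intro n
    rw [Algebra.traceForm_apply, mul_comm, mul_sub, map_sub, h, sub_self]
  have h3 := h1.1 (a - b) h2
  exact sub_eq_zero.1 h3

omit [Finite K] in
/-- the transfer form -/
theorem exists_bk [FiniteDimensional F K] (hs : ∀ (k : K) (u v : V), B (k • u) v = B u (k • v)) :
    ∃ C : LinearMap.BilinForm K V, ∀ u v, Algebra.trace F K (C u v) = B u v := by
  have h1 := traceForm_nondegenerate F K
  have hex : ∀ u v : V, ∃ c : K, ∀ k : K, Algebra.trace F K (k * c) = B (k • u) v := by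
    intro u v
    let f : Module.Dual F K :=
      { toFun := fun k => B (k • u) v
        map_add' := fun k l => by rw [add_smul, map_add, LinearMap.add_apply]
        map_smul' := fun a k => by
          rw [smul_assoc, map_smul, LinearMap.smul_apply, RingHom.id_apply] }
    refine ⟨((Algebra.traceForm F K).toDual h1).symm f, fun k => ?_⟩
    have h2 := LinearMap.BilinForm.apply_toDual_symm_apply (hB := h1) (f := f) (v := k)
    rw [Algebra.traceForm_apply, mul_comm] at h2
    exact h2
  choose c hc using hex
  refine ⟨LinearMap.mk₂ K c ?_ ?_ ?_ ?_, fun u v => ?_⟩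
  · intro u u' v
    apply tr_ext (F := F)
    intro k
    rw [mul_add, map_add, hc, hc, hc, smul_add, map_add, LinearMap.add_apply]
  · intro a u v
    apply tr_ext (F := F)
    intro k
    rw [smul_eq_mul, ← mul_assoc, hc, hc, mul_smul]
  · intro u v v'
    apply tr_ext (F := F)
    intro k
    rw [mul_add, map_add, hc, hc, hc, map_add]
  · intro a u v
    apply tr_ext (F := F)
    intro k
    rw [smul_eq_mul, ← mul_assoc, hc, hc, ← hs, mul_comm k a, mul_smul]
  · rw [LinearMap.mk₂_apply]
    have := hc u v 1
    rwa [one_mul, one_smul] at this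

omit [Finite F] in
/-- a form with self-adjoint scalars -/
theorem alt_smul (hB : NAlt B) (hs : ∀ (k : K) (u v : V), B (k • u) v = B u (k • v)) (k : K) (u : V) :
    B (k • u) u = 0 := by
  by_cases h2 : ringChar K = 2
  · obtain ⟨l, rfl⟩ := FiniteField.isSquare_of_char_two h2 k
    rw [mul_smul, hs, hB.alt]
  · have h3 : B (k • u) u = - B (k • u) u := by
      conv_lhs => rw [hs, hB.swap]
    have h4 : (2 : F) * B (k • u) u = 0 := by linear_combination h3
    have h5 : (2 : F) ≠ 0 := by
      intro h0
      apply Ring.two_ne_zero h2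
      have h6 := congrArg (algebraMap F K) h0
      rwa [map_ofNat, map_zero] at h6
    exact (mul_eq_zero.1 h4).resolve_left h5

variable {C : LinearMap.BilinForm K V}

omit [Finite F] [Finite K] in
theorem tr_mul (hC : ∀ u v, Algebra.trace F K (C u v) = B u v) (k : K) (u v : V) :
    Algebra.trace F K (k * C u v) = B (k • u) v := by
  rw [← hC, map_smul, LinearMap.smul_apply, smul_eq_mul]

theorem nalt_bk [FiniteDimensional F K] (hB : NAlt B) (hs : ∀ (k : K) (u v : V), B (k • u) v = B u (k • v))
    (hC : ∀ u v, Algebra.trace F K (C u v) = B u v) : NAlt C where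
  alt u := by
    apply tr_ext (F := F)
    intro k
    rw [tr_mul hC, alt_smul hB hs, mul_zero, map_zero]
  nd u hu := by
    apply hB.nd
    intro v
    rw [← hC, hu, map_zero]

/-- `Sp C →* Sp B` -/
def jk (hC : ∀ u v, Algebra.trace F K (C u v) = B u v) : Sp C →* Sp B where
  toFun t := ⟨t.1.restrictScalars F, fun u v => by
    show B (t.1 u) (t.1 v) = B u v
    rw [← hC, ← hC, t.2]⟩
  map_one' := rfl
  map_mul' s t := rfl

omit [Finite F] [Finite K] in
@[simp] theorem jk_apply (hC : ∀ u v, Algebra.trace F K (C u v) = B u v) (t : Sp C) (v : V) :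
    (jk hC t).1 v = t.1 v := rfl

omit [Finite F] [Finite K] in
theorem jk_injective (hC : ∀ u v, Algebra.trace F K (C u v) = B u v) : Function.Injective (jk hC) := by
  intro s t h
  apply Subtype.ext
  apply LinearEquiv.ext
  intro v
  rw [← jk_apply hC, ← jk_apply hC, h]

omit [Finite K] in
/-- the image: the elements commuting with `K` -/
theorem exists_jk [FiniteDimensional F K] (hC : ∀ u v, Algebra.trace F K (C u v) = B u v) {t : Sp B}
    (ht : ∀ (k : K) v, t.1 (k • v) = k • t.1 v) : ∃ s, jk hC s = t := by
  refine ⟨⟨{ t.1 with map_smul' := fun k v => ht k v }, fun u v => ?_⟩, rfl⟩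
  show C (t.1 u) (t.1 v) = C u v
  apply tr_ext (F := F)
  intro k
  rw [tr_mul hC, tr_mul hC, ← ht, t.2]

end field

section rule

variable {F V : Type} [Field F] [Finite F] [AddCommGroup V] [Module F V] [FiniteDimensional F V]
  {B : LinearMap.BilinForm F V} {G : Type} [Group G] [Finite G] {Ω : Type} [Nonempty Ω] [MulAction G Ω]
  {N : Subgroup G} {ρ : ↥(Sp B) →* G} {ι : Type} [Finite ι] {x : ι → G} {r : ι → ℕ} {M : ι → SS B}

/-- `K`-linear elements centralising `Sp C` are in `K` -/
theorem scal_of_comm {K : Type} [Field K] [Module K V] {C : LinearMap.BilinForm K V} (hC : NAlt C)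
    [FiniteDimensional K V] (hd : 2 ≤ finrank K V) (f : V →+ V)
    (h : ∀ (t : Sp C) v, f (t.1 v) = t.1 (f v)) : ∃ c : K, ∀ v, f v = c • v := by
  apply scal_of_lines hd
  intro v
  by_cases hv : v = 0
  · exact ⟨0, by rw [hv, map_zero, smul_zero]⟩
  obtain ⟨y, hy⟩ := hC.exists_one hv
  have h1 := h (tv hC v (-1)) y
  rw [tv_apply, tv_apply, map_add, add_right_inj, hC.swap y v, hy] at h1
  exact ⟨-1 * C (f y) v, by rw [← h1]; simp⟩

/-- the M-rule for a field of self-adjoint scalars -/
theorem m_rule_field (E : SpEnv Ω N ρ) (hIH : IH (Nat.card N)) (h22 : ¬ (Nat.card F = 2 ∧ finrank F V = 4))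
    (hx : PF x r) (hcov : Cov Ω x) (hM : ∀ i, Lf ρ (x i) (M i))
    {K : Type} [Field K] [Finite K] [Algebra F K] [Module K V] [IsScalarTower F K V]
    (hK : 2 ≤ finrank F K) (hs : ∀ (k : K) (u v : V), B (k • u) v = B u (k • v))
    (hcm : ∀ i (k : K) v, M i (k • v) = k • M i v)
    (hex : Nat.card F = 3 → finrank F V = 4 → ∀ i j, (¬ ∃ k : K, ∀ v, M i v = k • v) →
      (¬ ∃ k : K, ∀ v, M j v = k • v) → i = j) (ω : Ω) :
    (∀ t : ↥(Sp B), (∀ (k : K) v, t.1 (k • v) = k • t.1 v) → ρ t • ω = ω) ∨
      ∃ i, (∃ k : K, ∀ v, M i v = k • v) ∧ x i • ω = ω := by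
  classical
  have hfV : Finite V := Module.finite_of_finite F
  have hfK : FiniteDimensional F K := Module.Finite.of_finite
  have hfKV : FiniteDimensional K V := Module.Finite.of_finite
  obtain ⟨C, hC⟩ := exists_bk (F := F) hs
  have hCn := nalt_bk E.form hs hC
  have hdim := E.dim
  obtain ⟨m, hm⟩ := exists_dim E.form
  obtain ⟨m', hm'⟩ := exists_dim hCn
  have hmul : finrank F K * finrank K V = finrank F V := Module.finrank_mul_finrank F K V
  have hm1 : m' ≠ 0 := by
    rintro rfl
    rw [hm'] at hmul
    omega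
  have hcK : Nat.card K = Nat.card F ^ finrank F K := Module.natCard_eq_pow_finrank
  have hF2 : 2 ≤ Nat.card F := Finite.one_lt_card
  have hF : Nat.card F ≠ 2 → 3 ≤ Nat.card F := by omega
  have hK4 : 4 ≤ Nat.card K := by
    rw [hcK]
    calc 4 = 2 ^ 2 := rfl
      _ ≤ Nat.card F ^ 2 := Nat.pow_le_pow_left hF2 2
      _ ≤ _ := Nat.pow_le_pow_right (by omega) hK
  have hpB : commutator (Sp B) = ⊤ := by
    apply perfect_Sp E.form
    by_cases h6 : 6 ≤ finrank F V
    · exact Or.inl h6
    · have h4 : finrank F V = 4 := by omega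
      exact Or.inr (Or.inl ⟨h4, hF fun h => h22 ⟨h, h4⟩⟩)
  have hall : 6 ≤ finrank K V ∨ (finrank K V = 4 ∧ 3 ≤ Nat.card K) ∨ (finrank K V ≠ 0 ∧ 4 ≤ Nat.card K) :=
    Or.inr (Or.inr ⟨by omega, hK4⟩)
  have hpC : commutator (Sp C) = ⊤ := perfect_Sp hCn (Or.inr (Or.inr hK4))
  -- the centralisers
  have hcent : ∀ i, (∀ s, x i * ρ (jk hC s) = ρ (jk hC s) * x i) ↔ ∃ k : K, ∀ v, M i v = k • v := by
    intro i
    rw [E.cent_iff (hM i) (jk hC) hpC]
    constructor
    · intro h
      exact scal_of_comm hCn (by omega) (M i).f.toAddMonoidHom h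
    · rintro ⟨k, hk⟩ s v
      rw [jk_apply, hk, hk, jk_apply, map_smul]
  -- not surjective
  have hns : ¬ Function.Surjective (jk hC) := by
    intro hsur
    have h1 : ∀ k : K, ∃ c : F, ∀ v : V, k • v = c • v := by
      intro k
      apply scal_of_comm E.form (by omega) (DistribSMul.toAddMonoidHom V k)
      intro t v
      obtain ⟨s, rfl⟩ := hsur t
      show k • s.1 v = s.1 (k • v)
      rw [map_smul]
    have hnt : Nontrivial V := Module.nontrivial_of_finrank_pos (R := F) (by omega)
    obtain ⟨v, hv⟩ := exists_ne (0 : V)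
    have h2 : Function.Surjective (algebraMap F K) := by
      intro k
      obtain ⟨c, hc⟩ := h1 k
      refine ⟨c, ?_⟩
      have h3 : (algebraMap F K c - k) • v = 0 := by
        rw [sub_smul, algebraMap_smul, hc, sub_self]
      exact sub_eq_zero.1 ((smul_eq_zero.1 h3).resolve_right hv)
    have h3 : finrank F K ≤ finrank F F :=
      LinearMap.finrank_le_finrank_of_surjective (f := Algebra.linearMap F K) h2 
    rw [finrank_self] at h3
    omega
  have hfE : Finite (V ≃ₗ[K] V) := Finite.of_injective (fun e : V ≃ₗ[K] V => (e : V → V)) DFunLike.coe_injective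
  have hrule := E.mrule hIH (jk hC) (jk_injective hC) (E.range_ne hpB (jk hC) hns) hpC (simple_Sp hCn hall)
    (ncomm_Sp hCn hall) hM hx hcov (by
      intro i s
      have h1 : ∀ (k : K) v, (SS.cj (M i) (jk hC s)).1 (k • v) = k • (SS.cj (M i) (jk hC s)).1 v := by
        intro k v
        obtain ⟨v, rfl⟩ := (M i).surjective v
        rw [← hcm, SS.cj_apply, SS.cj_apply, ← hcm, jk_apply, jk_apply, map_smul]
      obtain ⟨s', hs'⟩ := exists_jk hC h1
      exact ⟨s', hs'.symm⟩) (by
      by_cases hd4 : finrank K V = 2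
      · by_cases h9 : Nat.card K = 9
        · right
          have hq : Nat.card F = 3 ∧ finrank F K = 2 := by
            have h5 : Nat.card F ^ 2 ≤ 9 := by
              rw [← h9, hcK]
              exact Nat.pow_le_pow_right (by omega) hK
            have h6 : Nat.card F ≤ 3 := by
              by_contra h7
              push Not at h7
              have : 4 ^ 2 ≤ Nat.card F ^ 2 := Nat.pow_le_pow_left (by omega) 2
              omega
            have h7 : Nat.card F = 2 ∨ Nat.card F = 3 := by omega
            rcases h7 with h7 | h7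
            · exfalso
              rw [hcK, h7] at h9
              have h8 : finrank F K < 4 := by
                by_contra h10
                push Not at h10
                have : 2 ^ 4 ≤ 2 ^ finrank F K := Nat.pow_le_pow_right (by omega) h10
                omega
              interval_cases h11 : finrank F K <;> omega
            · refine ⟨h7, ?_⟩
              rw [hcK, h7] at h9
              have h8 : finrank F K < 3 := by
                by_contra h10
                push Not at h10
                have : 3 ^ 3 ≤ 3 ^ finrank F K := Nat.pow_le_pow_right (by omega) h10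
                omega
              omega
          have h4 : finrank F V = 4 := by rw [← hmul, hq.2, hd4]
          have hh := hex hq.1 h4
          by_cases hall' : ∃ i, ¬ ∃ k : K, ∀ v, M i v = k • v
          · obtain ⟨i₀, hi₀⟩ := hall'
            refine ⟨i₀, fun i hi => (hcent i).2 ?_⟩
            by_contra hcon
            exact hi (hh i i₀ hcon hi₀)
          · push Not at hall'
            obtain ⟨i₀, _⟩ := hcov (Classical.arbitrary Ω)
            exact ⟨i₀, fun i _ => (hcent i).2 (hall' i)⟩
        · left
          refine ⟨cl_Sp hCn hall, not_exc_Sp2 hCn hd4 ?_ ?_ h9⟩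
          · intro h4
            have h5 : Nat.card F = 2 := by
              by_contra h6
              have h7 : 3 ^ 2 ≤ Nat.card F ^ finrank F K :=
                (Nat.pow_le_pow_left (hF h6) 2).trans (Nat.pow_le_pow_right (by omega) hK)
              omega
            apply h22
            refine ⟨h5, ?_⟩
            have h8 : finrank F K = 2 := by
              rw [hcK, h5] at h4
              by_contra h9
              have : 2 ^ 3 ≤ 2 ^ finrank F K := Nat.pow_le_pow_right (by omega) (by omega)
              omega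
            rw [← hmul, h8, hd4]
          · intro h5
            rw [hcK] at h5
            have h6 : (5 : ℕ).Prime := by norm_num
            rw [← h5] at h6
            exact h6.not_prime_pow hK
      · left
        refine ⟨cl_Sp hCn hall, not_exc_Sp hCn ?_⟩
        by_cases h6 : 6 ≤ finrank K V
        · exact Or.inl h6
        · exact Or.inr ⟨by omega, by omega⟩) ω
  rcases hrule with h | ⟨i, hi, hω⟩
  · left
    intro t ht
    obtain ⟨s, rfl⟩ := exists_jk hC ht
    exact h s
  · exact Or.inr ⟨i, (hcent i).1 hi, hω⟩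

/-- **BOX D5.** `F[θ]` a field of self-adjoint operators commuting with all lifts: the group `Sp_K(V)`, conclusion
of the M-rule. -/
theorem m_rule_K (E : SpEnv Ω N ρ) (hIH : IH (Nat.card N)) (h22 : ¬ (Nat.card F = 2 ∧ finrank F V = 4))
    (hx : PF x r) (hcov : Cov Ω x)
    (hM : ∀ i, Lf ρ (x i) (M i)) (_hl : ∀ i, (M i).IsLin) (θ : Module.End F V)
    (hθs : ∀ u v, B (θ u) v = B u (θ v)) (hθ : Irreducible (minpoly F θ)) (hθ1 : ∀ a : F, θ ≠ algebraMap F _ a)
    (hcm : ∀ i v, M i (θ v) = θ (M i v))
    -- only if `K = F_9`, `dim_K V = 2`: the members outside `K` are of one prime order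
    (hex : Nat.card F = 3 → finrank F V = 4 → ∀ i j, (¬ ∃ P : Polynomial F, ∀ v, M i v = Polynomial.aeval θ P v) →
      (¬ ∃ P : Polynomial F, ∀ v, M j v = Polynomial.aeval θ P v) → i = j) (ω : Ω) :
    (∀ t : ↥(Sp B), (∀ v, t.1 (θ v) = θ (t.1 v)) → ρ t • ω = ω) ∨
      ∃ i, (∃ P : Polynomial F, ∀ v, M i v = Polynomial.aeval θ P v) ∧ x i • ω = ω := by
  classical
  have hfV : Finite V := Module.finite_of_finite F
  have : Fact (Irreducible (minpoly F θ)) := ⟨hθ⟩
  have hint : IsIntegral F θ := by
    by_contra h
    rw [minpoly.eq_zero h] at hθ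
    exact hθ.ne_zero rfl
  let φ : AdjoinRoot (minpoly F θ) →+* Module.End F V :=
    Ideal.Quotient.lift (Ideal.span {minpoly F θ}) (Polynomial.aeval θ).toRingHom (by
      intro a ha
      obtain ⟨b, rfl⟩ := Ideal.mem_span_singleton'.1 ha
      show Polynomial.aeval θ (b * minpoly F θ) = 0
      rw [map_mul, minpoly.aeval, mul_zero])
  have hφ : ∀ P : Polynomial F, φ (AdjoinRoot.mk _ P) = Polynomial.aeval θ P := fun P => rfl
  let _ : Module (AdjoinRoot (minpoly F θ)) V := Module.compHom V φ
  have hsm : ∀ (P : Polynomial F) (v : V), (AdjoinRoot.mk (minpoly F θ) P) • v = Polynomial.aeval θ P v := by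
    intro P v
    rw [← hφ]
    rfl
  have htw : IsScalarTower F (AdjoinRoot (minpoly F θ)) V := ⟨fun a k v => by
    obtain ⟨P, rfl⟩ := AdjoinRoot.mk_surjective k
    rw [AdjoinRoot.smul_mk, hsm, hsm, map_smul, LinearMap.smul_apply]⟩
  have hfd : FiniteDimensional F (AdjoinRoot (minpoly F θ)) := (AdjoinRoot.powerBasis hθ.ne_zero).finite
  have hfin : Finite (AdjoinRoot (minpoly F θ)) := Module.finite_of_finite F
  -- everything commuting with `θ` commutes with `K`
  have hcomm : ∀ f : V →ₗ[F] V, (∀ v, f (θ v) = θ (f v)) → ∀ (k : AdjoinRoot (minpoly F θ)) v, f (k • v) = k • f v := by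
    intro f hf k v
    obtain ⟨P, rfl⟩ := AdjoinRoot.mk_surjective k
    rw [hsm, hsm]
    have h1 : Commute (f : Module.End F V) θ := LinearMap.ext hf
    have h2 : Commute (f : Module.End F V) (Polynomial.aeval θ P) := by
      induction P using Polynomial.induction_on' with
      | add p q hp hq => rw [map_add]; exact hp.add_right hq
      | monomial n a =>
        rw [Polynomial.aeval_monomial]
        exact (Algebra.commute_algebraMap_right a _).mul_right (h1.pow_right n)
    exact LinearMap.congr_fun h2 v
  have h2 : 2 ≤ finrank F (AdjoinRoot (minpoly F θ)) := by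
    by_contra hcon
    push Not at hcon
    have h3 : finrank F (AdjoinRoot (minpoly F θ)) = 1 := by
      have := Module.finrank_pos (R := F) (M := AdjoinRoot (minpoly F θ))
      omega
    obtain ⟨c, hc⟩ := (finrank_eq_one_iff_of_nonzero' (1 : AdjoinRoot (minpoly F θ)) one_ne_zero).1 h3
      (AdjoinRoot.root (minpoly F θ))
    apply hθ1 c
    have h4 := congrArg φ hc
    rw [← map_one (AdjoinRoot.mk (minpoly F θ)), AdjoinRoot.smul_mk, hφ, ← AdjoinRoot.mk_X, hφ, Polynomial.aeval_X,
      map_smul, map_one] at h4
    rw [← h4, Algebra.algebraMap_eq_smul_one]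
  have hs : ∀ (k : AdjoinRoot (minpoly F θ)) (u v : V), B (k • u) v = B u (k • v) := by
    intro k u v
    obtain ⟨P, rfl⟩ := AdjoinRoot.mk_surjective k
    rw [hsm, hsm]
    have hpow : ∀ (n : ℕ) (u v : V), B ((θ ^ n) u) v = B u ((θ ^ n) v) := by
      intro n
      induction n with
      | zero => intro u v; rfl
      | succ n ih =>
        intro u v
        rw [pow_succ, Module.End.mul_apply, ih, hθs, ← Module.End.mul_apply, ← pow_succ', ← pow_succ]
    induction P using Polynomial.induction_on' with
    | add p q hp hq =>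
      rw [map_add, LinearMap.add_apply, LinearMap.add_apply, map_add, LinearMap.add_apply, hp, hq, map_add]
    | monomial n a =>
      rw [Polynomial.aeval_monomial, ← Algebra.smul_def, LinearMap.smul_apply, LinearMap.smul_apply, map_smul,
        LinearMap.smul_apply, hpow, map_smul]
  have hiff : ∀ i, (∃ k : AdjoinRoot (minpoly F θ), ∀ v, M i v = k • v) ↔
      ∃ P : Polynomial F, ∀ v, M i v = Polynomial.aeval θ P v := by
    intro i
    constructor
    · rintro ⟨k, hk⟩
      obtain ⟨P, rfl⟩ := AdjoinRoot.mk_surjective k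
      exact ⟨P, fun v => by rw [hk, hsm]⟩
    · rintro ⟨P, hP⟩
      exact ⟨AdjoinRoot.mk _ P, fun v => by rw [hP, hsm]⟩
  have hrule := m_rule_field E hIH h22 hx hcov hM h2 hs (fun i k v => hcomm (_hl i).lin.toLinearMap (hcm i) k v)
    (fun h3 h4 i j hi hj => hex h3 h4 i j (fun h => hi ((hiff i).2 h)) fun h => hj ((hiff j).2 h)) ω
  rcases hrule with h | ⟨i, hi, hω⟩
  · exact Or.inl fun t ht => h t (hcomm t.1.toLinearMap ht)
  · exact Or.inr ⟨i, (hiff i).1 hi, hω⟩

end rule

end Cfsg.Agent.H236.RC.D5
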