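import Cfsg.Agent.H236.RC.FA2
import Cfsg.Agent.H188.RC.ThmA
import Cfsg.Agent.H380.RC.Rules
import Cfsg.Agent.H106.RC.Use

/-!
# S3510, row F, box FA3 (helper236): field automorphisms
-/

set_option autoImplicit false
set_option linter.unusedSectionVars false

open Cfsg

namespace Cfsg.Agent.H236.RC

open QuadraticMap MulAction
open Cfsg.Agent.LieClassical Cfsg.Agent.LieClassical.OrthCore Cfsg.Agent.LieClassical.OrthTrans
open Cfsg.Agent.LieClassical.OrthSimple Cfsg.Agent.ClassicalGeometry.OrthSemi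
open Cfsg.Agent.ClassicalGeometry.OrthAut1 Cfsg.Agent.H106.RC Cfsg.Agent.H93.RC Cfsg.Agent.H188.RC
open Cfsg.Agent.AutOrth.SemiSim Cfsg.Agent.GenOrth Cfsg.Agent.H380.RC

section notcov

variable {F V : Type*} [Field F] [Finite F] [AddCommGroup V] [Module F V] [FiniteDimensional F V]
  {Q : QuadraticForm F V} {G Ω : Type*} [Group G] [MulAction G Ω] [Nonempty Ω]
  {N : Subgroup G} {ρ : ↥(E Q) →* G}

theorem polar_E (g : ↥(E Q)) (u v : V) : polar Q ((g : V ≃ₗ[F] V) u) ((g : V ≃ₗ[F] V) v) = polar Q u v := by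
  have h : ∀ x, Q ((g : V ≃ₗ[F] V) x) = Q x := fun x => E_le_O g.2 x
  simp only [polar, ← map_add, h]

/-- the same vector -/
theorem sg_comm_same {u w w' : V} (hu : Q u = 0) (hw : polar Q u w = 0) (hw' : polar Q u w' = 0) :
    sg Q u w hu hw * sg Q u w' hu hw' = sg Q u w' hu hw' * sg Q u w hu hw := by
  have h1 : polar Q u (w + w') = 0 := by rw [polar_add_right, hw, hw', add_zero]
  have h2 : polar Q u (w' + w) = 0 := by rw [polar_add_right, hw, hw', add_zero]
  rw [sg_mul hu hw hw' h1, sg_mul hu hw' hw h2]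
  exact sg_congr _ _ _ _ rfl (add_comm _ _)

/-- `sg u w = sg w (-u)` for a totally singular pair -/
theorem sg_swap {u w : V} (hu : Q u = 0) (hw : Q w = 0) (huw : polar Q u w = 0) (hwu : polar Q w (-u) = 0) :
    sg Q u w hu huw = sg Q w (-u) hw hwu := by
  refine ext_E fun v => ?_
  rw [sg_apply, sg_apply, hw, QuadraticMap.map_neg, hu, polar_neg_left]
  module

/-- **`g` is trivial on the good subspace `W`; a long root element of `W`.** -/
theorem not_cov_W (hG : Good Q) (hE : Env G Ω N) (hρ : Rep Q N ρ) {W : Submodule F V}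
    (hW : Nondeg (Q.comp W.subtype)) {g : ↥(E Q)} (hg : ∀ v ∈ W, (g : V ≃ₗ[F] V) v = v) (hg1 : g ≠ 1)
    {e w : V} (heW : e ∈ W) (hwW : w ∈ W) (he : Q e = 0) (hw : Q w = 0) (hew : polar Q e w = 0) (he0 : e ≠ 0)
    (hind : ∀ a : F, w ≠ a • e)
    (hcov : ∀ ω : Ω, ρ g • ω = ω ∨ ρ (sg Q e w he hew) • ω = ω) : False := by
  have hperp : ∀ v : V, ∀ x ∈ W, polar Q x (v - (embW hW).j ((embW hW).π v)) = 0 := by
    intro v x hx
    have h1 := (embW hW).adj ⟨x, hx⟩ v
    have h2 := (embW hW).adj ⟨x, hx⟩ ((embW hW).j ((embW hW).π v))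
    rw [Emb.π_j] at h2
    rw [polar_sub_right]
    rw [embW_j] at h1 h2
    rw [h1, h2, sub_self]
  -- a vector of `W^⊥` moved by `g`
  obtain ⟨z, hzW, hz⟩ : ∃ z : V, (∀ x ∈ W, polar Q x z = 0) ∧ (g : V ≃ₗ[F] V) z ≠ z := by
    obtain ⟨v, hv⟩ : ∃ v, (g : V ≃ₗ[F] V) v ≠ v := by
      by_contra hcon
      push Not at hcon
      exact hg1 (ext_E hcon)
    refine ⟨v - (embW hW).j ((embW hW).π v), hperp v, ?_⟩
    have h0 : (g : V ≃ₗ[F] V) ((embW hW).j ((embW hW).π v)) = (embW hW).j ((embW hW).π v) :=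
      hg _ ((embW hW).π v).2
    rw [map_sub, h0]
    intro h
    exact hv (sub_left_injective h)
  set k : V := z - (g : V ≃ₗ[F] V) z with hk
  have hk0 : k ≠ 0 := fun h => hz (sub_eq_zero.1 h).symm
  have hgz : ∀ x ∈ W, polar Q x ((g : V ≃ₗ[F] V) z) = 0 := by
    intro x hx
    have h1 := polar_E g x z
    rw [hg x hx] at h1
    rw [h1, hzW x hx]
  have hkW : ∀ x ∈ W, polar Q x k = 0 := by
    intro x hx
    rw [hk, polar_sub_right, hzW x hx, hgz x hx, sub_self]
  obtain ⟨z', hz'W, hkz'⟩ : ∃ z' : V, (∀ x ∈ W, polar Q x z' = 0) ∧ polar Q k z' = 1 := by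
    obtain ⟨v, hv⟩ := hG.nondeg.exists_polar_eq hk0 1
    refine ⟨v - (embW hW).j ((embW hW).π v), hperp v, ?_⟩
    rw [polar_sub_right, hv, polar_comm Q k, hkW _ (show (embW hW).j ((embW hW).π v) ∈ W from ((embW hW).π v).2), sub_zero]
  -- the subgroup `U`
  let X : Set ↥(E Q) := {s | (∃ v, ∃ h : polar Q e v = 0, (∀ x ∈ W, polar Q x v = 0) ∧ s = sg Q e v he h) ∨
    ∃ v, ∃ h : polar Q w v = 0, (∀ x ∈ W, polar Q x v = 0) ∧ s = sg Q w v hw h}
  let U : Subgroup G := (Subgroup.closure X).map ρ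
  set t := sg Q e w he hew with ht
  have hwe : polar Q w (-e) = 0 := by rw [polar_neg_right, polar_comm, hew, neg_zero]
  have hcomm : ∀ s ∈ Subgroup.closure X, s * t = t * s := by
    intro s hs
    have h1 : Subgroup.closure X ≤ Subgroup.centralizer ({t} : Set ↥(E Q)) := by
      rw [Subgroup.closure_le]
      rintro s (⟨v, h, -, rfl⟩ | ⟨v, h, -, rfl⟩)
      · rw [SetLike.mem_coe, Subgroup.mem_centralizer_singleton_iff]
        exact sg_comm_same he h hew
      · rw [SetLike.mem_coe, Subgroup.mem_centralizer_singleton_iff, ht, sg_swap he hw hew hwe]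
        exact sg_comm_same hw h hwe
    exact Subgroup.mem_centralizer_singleton_iff.1 (h1 hs)
  refine not_cov_one hE (x := ρ g) (y := ρ t) (U := U) (fun ω => (hcov ω).symm) ?_ ?_ ?_
  · rintro _ ⟨s, hs, rfl⟩
    rw [← map_mul, ← map_mul, hcomm s hs]
  · intro h
    have h1 : t ∈ Subgroup.center ↥(E Q) := by rw [← hρ.ker, MonoidHom.mem_ker]; exact h
    obtain ⟨a, -, ha⟩ := scal_of_center hG h1
    obtain ⟨c, hc⟩ := mem_line_of_scalar hG.nondeg he he0 hew ha
    exact hind c hc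
  · -- `t` is in the commutator
    have hez : polar Q e z = 0 := hzW e heW
    have hek : polar Q e k = 0 := hkW e heW
    have hwz' : polar Q w z' = 0 := hz'W w hwW
    have m1 : ρ (sg Q e z he hez) ∈ U := ⟨_, Subgroup.subset_closure (Or.inl ⟨z, hez, hzW, rfl⟩), rfl⟩
    have m2 : ρ (sg Q w z' hw hwz') ∈ U := ⟨_, Subgroup.subset_closure (Or.inr ⟨z', hwz', hz'W, rfl⟩), rfl⟩
    have c1 := mem_cmm (x := ρ g) m1
    have e1 : sg Q e z he hez * g * (sg Q e z he hez)⁻¹ * g⁻¹ = sg Q e k he hek := by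
      have hge : (g : V ≃ₗ[F] V) e = e := hg e heW
      have hz1 : polar Q e (-z) = 0 := by rw [polar_neg_right, hez, neg_zero]
      have hz2 : polar Q e (-(g : V ≃ₗ[F] V) z) = 0 := by rw [polar_neg_right, hgz e heW, neg_zero]
      have h3 : g * (sg Q e z he hez)⁻¹ * g⁻¹ = sg Q e (-(g : V ≃ₗ[F] V) z) he hz2 := by
        rw [sg_inv he hez hz1, conj_sg g he hz1 (by rw [hge]; exact he)
          (by rw [polar_E]; exact hz1)]
        exact sg_congr _ _ _ _ hge (by rw [map_neg])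
      rw [mul_assoc, mul_assoc, ← mul_assoc g, h3, sg_mul he hez hz2 (by rw [← sub_eq_add_neg]; exact hek)]
      exact sg_congr _ _ _ _ rfl (by rw [hk, sub_eq_add_neg])
    rw [← map_inv, ← map_inv, ← map_mul, ← map_mul, ← map_mul, e1] at c1
    have c2 := cmm_comm m2 c1
    have e2 : sg Q w z' hw hwz' * sg Q e k he hek * (sg Q w z' hw hwz')⁻¹ * (sg Q e k he hek)⁻¹ = t⁻¹ := by
      have hwe' : polar Q w e = 0 := by rw [polar_comm, hew]
      have hz'e : polar Q z' e = 0 := by rw [polar_comm, hz'W e heW]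
      have a1 : ((sg Q w z' hw hwz' : ↥(E Q)) : V ≃ₗ[F] V) e = e := by
        rw [sg_apply, hwe', hz'e]
        simp
      have a2 : ((sg Q w z' hw hwz' : ↥(E Q)) : V ≃ₗ[F] V) k = k - w := by
        rw [sg_apply, hkW w hwW, polar_comm Q z' k, hkz']
        simp
      have hkw : polar Q e (k - w) = 0 := by rw [polar_sub_right, hek, hew, sub_zero]
      have hnk : polar Q e (-k) = 0 := by rw [polar_neg_right, hek, neg_zero]
      have hnw : polar Q e (-w) = 0 := by rw [polar_neg_right, hew, neg_zero]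
      rw [conj_sg _ he hek (by rw [a1]; exact he) (by rw [polar_E]; exact hek), sg_inv he hek hnk,
        sg_congr _ _ he hkw a1 a2, sg_mul he hkw hnk (by rw [polar_add_right, hkw, hnk, add_zero]), ht,
        sg_inv he hew hnw]
      exact sg_congr _ _ _ _ rfl (by abel)
    rw [← map_inv, ← map_inv, ← map_mul, ← map_mul, ← map_mul, e2, map_inv] at c2
    exact (Subgroup.inv_mem_iff _).1 c2

end notcov

section plane

variable {F V : Type*} [Field F] [AddCommGroup V] [Module F V] {Q : QuadraticForm F V}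

/-- splitting off a nondegenerate plane -/
theorem split_of_det {x y : V} (h : 4 * Q x * Q y - polar Q x y * polar Q x y ≠ 0) :
    ∃ α β : V →ₗ[F] F, Split Q x y α β ∧ (∀ v, α v = 0 → β v = 0 → polar Q x v = 0 ∧ polar Q y v = 0) ∧
      ∀ v, polar Q x v = 0 → polar Q y v = 0 → α v = 0 ∧ β v = 0 := by
  set D := 4 * Q x * Q y - polar Q x y * polar Q x y with hD
  have hxx : polar Q x x = 2 * Q x := OrthCore.polar_self' x
  have hyy : polar Q y y = 2 * Q y := OrthCore.polar_self' y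
  have hyx : polar Q y x = polar Q x y := polar_comm Q y x
  let α : V →ₗ[F] F := D⁻¹ • ((2 * Q y) • polarBilin Q x - (polar Q x y) • polarBilin Q y)
  let β : V →ₗ[F] F := D⁻¹ • ((2 * Q x) • polarBilin Q y - (polar Q x y) • polarBilin Q x)
  have hα : ∀ v, α v = D⁻¹ * ((2 * Q y) * polar Q x v - polar Q x y * polar Q y v) := fun v => rfl
  have hβ : ∀ v, β v = D⁻¹ * ((2 * Q x) * polar Q y v - polar Q x y * polar Q x v) := fun v => rfl
  have hrx : ∀ v, polar Q x v = (2 * Q x) * α v + polar Q x y * β v := by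
    intro v
    rw [hα, hβ]
    have : (2 * Q x) * (D⁻¹ * ((2 * Q y) * polar Q x v - polar Q x y * polar Q y v)) +
        polar Q x y * (D⁻¹ * ((2 * Q x) * polar Q y v - polar Q x y * polar Q x v)) = D⁻¹ * D * polar Q x v := by
      rw [hD]; ring
    rw [this, inv_mul_cancel₀ h, one_mul]
  have hry : ∀ v, polar Q y v = polar Q x y * α v + (2 * Q y) * β v := by
    intro v
    rw [hα, hβ]
    have : polar Q x y * (D⁻¹ * ((2 * Q y) * polar Q x v - polar Q x y * polar Q y v)) +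
        (2 * Q y) * (D⁻¹ * ((2 * Q x) * polar Q y v - polar Q x y * polar Q x v)) = D⁻¹ * D * polar Q y v := by
      rw [hD]; ring
    rw [this, inv_mul_cancel₀ h, one_mul]
  have key : ∀ v, α v = 0 → β v = 0 → polar Q x v = 0 ∧ polar Q y v = 0 := by
    intro v h1 h2
    rw [hrx, hry, h1, h2]
    simp
  refine ⟨α, β, ⟨?_, ?_, ?_, ?_, fun v h1 h2 => (key v h1 h2).1, fun v h1 h2 => (key v h1 h2).2⟩, key, ?_⟩
  · rw [hα, hxx, hyx]
    rw [show (2 * Q y) * (2 * Q x) - polar Q x y * polar Q x y = D by rw [hD]; ring, inv_mul_cancel₀ h]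
  · rw [hα, hyy]; ring
  · rw [hβ, hxx, hyx]; ring
  · rw [hβ, hyy]
    rw [show (2 * Q x) * (2 * Q y) - polar Q x y * polar Q x y = D by rw [hD]; ring, inv_mul_cancel₀ h]
  · intro v h1 h2
    rw [hα, hβ, h1, h2]
    simp

theorem exists_sign {F0 : Type*} [Field F0] : ∃ s : F0, s * s = 1 ∧ 4 * s - 1 ≠ 0 := by
  by_cases h3 : (3 : F0) = 0
  · refine ⟨-1, by ring, fun h => ?_⟩
    have : (1 : F0) = 0 := by linear_combination h + 2 * h3
    exact one_ne_zero this
  · exact ⟨1, by ring, fun h => h3 (by linear_combination h)⟩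

/-- an element of `E` acting only on a nondegenerate plane -/
theorem exists_m0 [FiniteDimensional F V] (hG : Good Q) :
    ∃ (a c : V) (m : ↥(E Q)), m ≠ 1 ∧ (∀ v, polar Q a v = 0 → polar Q c v = 0 → (m : V ≃ₗ[F] V) v = v) ∧
      4 * Q a * Q c - polar Q a c * polar Q a c ≠ 0 := by
  obtain ⟨e1, f1, h1⟩ := hG.exists_hyp
  obtain ⟨e2, f2, h2, h3, h4, h5, h6⟩ := hG.exists_hyp2 h1
  obtain ⟨s, hs, hs4⟩ := exists_sign (F0 := F)
  have e1e1 : polar Q e1 e1 = 0 := polar_self_of_sing h1.left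
  have f1e1 : polar Q f1 e1 = 1 := by rw [polar_comm]; exact h1.pair
  set a := e1 + f1 with ha
  set c := e1 + (e2 + s • f2) with hc
  have hQa : Q a = 1 := by
    rw [ha, Q_add, h1.left, h1.right, h1.pair]; ring
  have hQc : Q c = s := by
    rw [hc, Q_add, Q_add, h1.left, h2.left, QuadraticMap.map_smul, h2.right, polar_smul_right, h2.pair,
      polar_add_right, polar_smul_right, h3, h4]
    simp
  have hac : polar Q a c = 1 := by
    rw [ha, hc, polar_add_left, polar_add_right, polar_add_right, polar_add_right, polar_add_right, e1e1, f1e1,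
      polar_smul_right, polar_smul_right, h3, h4, h5, h6]
    simp
  have hs0 : s ≠ 0 := by rintro rfl; simp at hs
  have hsi : s⁻¹ = s := inv_eq_of_mul_eq_one_left hs
  have ha0 : Q a ≠ 0 := by rw [hQa]; exact one_ne_zero
  have hc0 : Q c ≠ 0 := by rw [hQc]; exact hs0
  let g : V ≃ₗ[F] V := refl Q a ha0 * refl Q c hc0
  have hg : g * g ∈ E Q := by
    rw [← hG.commutator_eq_E]
    have h1 : (refl Q a ha0)⁻¹ = refl Q a ha0 := inv_eq_of_mul_eq_one_left (refl_mul_self ha0)
    have h2 : (refl Q c hc0)⁻¹ = refl Q c hc0 := inv_eq_of_mul_eq_one_left (refl_mul_self hc0)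
    have h3 : g * g = refl Q a ha0 * refl Q c hc0 * (refl Q a ha0)⁻¹ * (refl Q c hc0)⁻¹ := by
      rw [h1, h2]
      exact (mul_assoc _ _ _).symm
    rw [h3]
    exact Subgroup.commutator_mem_commutator (refl_mem_O ha0) (refl_mem_O hc0)
  have hgv : ∀ v, g v = refl Q a ha0 (refl Q c hc0 v) := fun v => rfl
  have hra : ∀ v, refl Q a ha0 v = v - polar Q a v • a := by
    intro v
    rw [refl_apply, hQa, inv_one, one_mul]
  have hrc : ∀ v, refl Q c hc0 v = v - (s * polar Q c v) • c := by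
    intro v
    rw [refl_apply, hQc, hsi]
  refine ⟨a, c, ⟨g * g, hg⟩, ?_, ?_, ?_⟩
  · intro h
    have hgg : ∀ v, g (g v) = v := fun v => LinearEquiv.congr_fun (congrArg Subtype.val h) v
    have haa : polar Q a a = 2 := by rw [OrthCore.polar_self', hQa, mul_one]
    have hcc : polar Q c c = 2 * s := by rw [OrthCore.polar_self', hQc]
    have hca : polar Q c a = 1 := by rw [polar_comm]; exact hac
    have ga : g a = (s - 1) • a - s • c := by
      rw [hgv, hrc, hra, hca, polar_sub_right, polar_smul_right, haa, hac]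
      simp only [smul_eq_mul, mul_one]
      module
    have gc : g c = a - c := by
      rw [hgv, hrc, hra, hcc]
      have : s * (2 * s) = 2 := by linear_combination 2 * hs
      rw [this, polar_sub_right, polar_smul_right, hac]
      simp only [smul_eq_mul, mul_one]
      module
    have h7 := hgg a
    rw [ga, map_sub, map_smul, map_smul, ga, gc] at h7
    have h8 : (1 - 3 * s) • a + (2 * s - 1) • c = 0 := by
      have h9 : (s - 1) • ((s - 1) • a - s • c) - s • (a - c) - a =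
          (1 - 3 * s) • a + (2 * s - 1) • c + (s * s - 1) • (a - c) := by module
      rw [h7, sub_self, hs, sub_self, zero_smul, add_zero] at h9
      exact h9.symm
    have h9 := congrArg (polar Q a) h8
    rw [polar_add_right, polar_smul_right, polar_smul_right, haa, hac, polar_zero_right] at h9
    simp only [smul_eq_mul] at h9
    exact hs4 (by linear_combination -h9)
  · intro v h7 h8
    have h9 : g v = v := by
      rw [hgv, hrc, h8, mul_zero, zero_smul, sub_zero, hra, h7, zero_smul, sub_zero]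
    show g (g v) = v
    rw [h9, h9]
  · rw [hQa, hQc, hac]
    intro h7
    exact hs4 (by linear_combination h7)

end plane

section semi

variable {F F0 V : Type*} [Field F] [Field F0] [AddCommGroup V] [Module F V] {n : ℕ}
  {φ : F0 →+* F} {b : Module.Basis (Fin n) F V} {Q : QuadraticForm F V} {Q0 : QuadraticForm F0 (Fin n → F0)}
  {d : F}

/-- conjugation of the extensions -/
theorem conjE_psiE (hd : d ≠ 0) (hQ : ∀ v, Q (semJ φ b v) = d * φ (Q0 v)) {M : Gam Q} {s : F} (hs : s ≠ 0)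
    {T : Gam Q0} (hT : ∀ v, M.1 (semJ φ b v) = s • semJ φ b (T.1 v)) (g : ↥(E Q0)) :
    conjE Q M (psiE hd hQ g) = psiE hd hQ (conjE Q0 T g) := by
  apply Subtype.ext
  refine equiv_ext φ b fun v => ?_
  obtain ⟨u, rfl⟩ := T.1.surjective v
  rw [psiE_semJ, coe_conjE, coe_conjE, conjLin_apply']
  have h1 : semJ φ b (T.1 u) = s⁻¹ • M.1 (semJ φ b u) := by rw [hT, inv_smul_smul₀ hs]
  rw [h1, map_smul, conjLin_apply', psiE_semJ, hT, inv_smul_smul₀ hs]

/-- the restriction of a linear similitude is a similitude -/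
theorem exists_T [Nontrivial V] (hG0 : ∃ x y, Hyp Q0 x y) (hd : d ≠ 0) (hQ : ∀ v, Q (semJ φ b v) = d * φ (Q0 v)) {M : Gam Q}
    (hM : IsLin M) {s : F} (hs : s ≠ 0) {T : (Fin n → F0) ≃ₗ[F0] (Fin n → F0)}
    (hT : ∀ v, M.1 (semJ φ b v) = s • semJ φ b (T v)) :
    ∃ T' : Gam Q0, ∀ v, T'.1 v = T v := by
  obtain ⟨σ, c, hS⟩ := M.2
  have hσ : ∀ a, σ a = a := by
    intro a
    obtain ⟨v, hv⟩ := exists_ne (0 : V)
    have h1 := hM a v
    rw [hS.smul] at h1
    have h2 : (σ a - a) • M.1 v = 0 := by rw [sub_smul, h1, sub_self]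
    have h3 : M.1 v ≠ 0 := fun h => hv (M.1.injective (by rw [h, hS.map_zero]))
    exact sub_eq_zero.1 ((smul_eq_zero.1 h2).resolve_right h3)
  have key : ∀ v, s * s * φ (Q0 (T v)) = c * φ (Q0 v) := by
    intro v
    have h1 := hS.form (semJ φ b v)
    rw [hT, QuadraticMap.map_smul, hQ, hQ, hσ] at h1
    simp only [smul_eq_mul] at h1
    have h2 : d * (s * s * φ (Q0 (T v)) - c * φ (Q0 v)) = 0 := by linear_combination h1
    exact sub_eq_zero.1 ((mul_eq_zero.1 h2).resolve_left hd)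
  obtain ⟨x, y, hxy⟩ := hG0
  have h1 : Q0 (x + y) = 1 := by rw [Q_add, hxy.left, hxy.right, hxy.pair]; ring
  set c0 := Q0 (T (x + y)) with hc0
  have h2 : c = s * s * φ c0 := by
    have := key (x + y)
    rw [h1, map_one, mul_one] at this
    exact this.symm
  have h3 : ∀ v, Q0 (T v) = c0 * Q0 v := by
    intro v
    apply φ.injective
    have h4 := key v
    rw [h2] at h4
    have h5 : s * s * (φ (Q0 (T v)) - φ (c0 * Q0 v)) = 0 := by rw [map_mul]; linear_combination h4
    exact sub_eq_zero.1 ((mul_eq_zero.1 h5).resolve_left (mul_ne_zero hs hs))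
  have h0 : c0 ≠ 0 := by
    intro h
    rw [h, map_zero, mul_zero] at h2
    exact hS.ne h2
  exact ⟨⟨T.toEquiv, RingEquiv.refl F0, c0, h0, fun u v => map_add T u v, fun a v => map_smul T a v, h3⟩,
    fun v => rfl⟩

end semi

/-! ### The main theorem -/

/-- **BOX FA3**: some `M i` is not linear. -/
theorem box_FA3 {F F0 V G Ω S ι : Type} [Field F] [Finite F] [Field F0] [AddCommGroup V] [Module F V]
    [FiniteDimensional F V] {Q : QuadraticForm F V} [Group G] [Finite G] [MulAction G Ω] [Nonempty Ω]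
    [Group S] [Finite S] {N : Subgroup G} {ρ : ↥(E Q) →* G}
    (hG : Good Q) (h7 : 7 ≤ Module.finrank F V) (hE : Env G Ω N) (hρ : Rep Q N ρ)
    (e : N ≃* S) (hIH : IH (Nat.card S)) [Finite ι] {x : ι → G} {M : ι → Gam Q} {r : ι → ℕ} (hx : PF x r)
    (hl : ∀ i, Lf ρ (x i) (M i)) (hcov : Cov Ω x)
    {n : ℕ} {φ : F0 →+* F} (hφ : ¬ Function.Surjective φ) {b : Module.Basis (Fin n) F V}
    {Q0 : QuadraticForm F0 (Fin n → F0)} {d : F} (hd : d ≠ 0) (hQ : ∀ v, Q (semJ φ b v) = d * φ (Q0 v))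
    (hnl : ∀ i, ¬ IsLin (M i) → ∃ s : F, s ≠ 0 ∧ ∀ v, (M i).1 (semJ φ b v) = s • semJ φ b v)
    (hlin : ∀ i, IsLin (M i) → ∃ (s : F) (T : (Fin n → F0) ≃ₗ[F0] (Fin n → F0)), s ≠ 0 ∧
      ∀ v, (M i).1 (semJ φ b v) = s • semJ φ b (T v))
    (hex : ∃ i, ¬ IsLin (M i)) : False := by
  classical
  have hfV : Finite V := Module.finite_of_finite F
  have hf0 : Finite F0 := Finite.of_injective φ φ.injective
  have hG0 : Good Q0 := good0 hG hQ
  have hn : 7 ≤ Module.finrank F0 (Fin n → F0) := by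
    rw [Module.finrank_fin_fun]
    rwa [Module.finrank_eq_card_basis b, Fintype.card_fin] at h7
  have hnt : Nontrivial V := Module.nontrivial_of_finrank_pos (R := F) (by omega)
  -- the similitudes `T i`
  have hT : ∀ i, ∃ (s : F) (T : Gam Q0), s ≠ 0 ∧ (∀ v, (M i).1 (semJ φ b v) = s • semJ φ b (T.1 v)) ∧
      (¬ IsLin (M i) → T = 1) := by
    intro i
    by_cases hi : IsLin (M i)
    · obtain ⟨s, T, hs, hT⟩ := hlin i hi
      obtain ⟨T', hT'⟩ := exists_T hG0.exists_hyp hd hQ hi hs hT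
      exact ⟨s, T', hs, fun v => by rw [hT, hT'], fun h => absurd hi h⟩
    · obtain ⟨s, hs, h⟩ := hnl i hi
      exact ⟨s, 1, hs, h, fun _ => rfl⟩
  choose s T hs hT hT1 using hT
  let θ : ↥(E Q0) →* G := ρ.comp (psiE hd hQ)
  have hθ : ∀ g, θ g = ρ (psiE hd hQ g) := fun g => rfl
  have hker : θ.ker ≤ Subgroup.center ↥(E Q0) := by
    intro g hg
    apply mem_center_of_psiE hd hQ
    rw [← hρ.ker, MonoidHom.mem_ker]
    exact hg
  have hconj : ∀ i g, x i * θ g * (x i)⁻¹ = θ (conjE Q0 (T i) g) := by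
    intro i g
    rw [hθ, hl i, conjE_psiE hd hQ (hs i) (hT i)]
    rfl
  have hcentn : ∀ i, ¬ IsLin (M i) → ∀ m ∈ θ.range, x i * m = m * x i := by
    rintro i hi _ ⟨g, rfl⟩
    have h1 := hconj i g
    rw [hT1 i hi, map_one, MulAut.one_apply] at h1
    exact mul_inv_eq_iff_eq_mul.1 h1
  have hcentl : ∀ i, (∀ m ∈ θ.range, x i * m = m * x i) → ¬ IsLin (M i) := by
    intro i hi hlin'
    have h1 : ∀ g, θ (conjE Q0 (T i) g) = θ g := by
      intro g
      rw [← hconj, hi _ ⟨g, rfl⟩, mul_inv_cancel_right]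
    have h2 : Psi Q0 (T i) = 1 := by
      ext t
      obtain ⟨t, rfl⟩ := QuotientGroup.mk_surjective t
      rw [Psi_mk]
      show (QuotientGroup.mk (conjE Q0 (T i) t) : P Q0) = QuotientGroup.mk t
      rw [eq_comm, QuotientGroup.eq]
      apply hker
      rw [MonoidHom.mem_ker, map_mul, map_inv, h1]
      group
    have h3 : conjE Q0 (T i) = 1 := eq_one_of_quotAut (commutator_E hG0) _ h2
    obtain ⟨a, ha, h4⟩ := exists_scalar_of_conjE hG0 (T i) h3
    have h5 : IsScal (M i) := by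
      refine ⟨s i * φ a, mul_ne_zero (hs i) ((map_ne_zero φ).2 ha), fun v => ?_⟩
      let f : V →ₗ[F] V :=
        { toFun := (M i).1
          map_add' := add_of_mem (M i).2
          map_smul' := hlin' }
      have h6 : f = (s i * φ a) • LinearMap.id := by
        refine lin_ext φ b fun v => ?_
        show (M i).1 (semJ φ b v) = (s i * φ a) • semJ φ b v
        rw [hT, h4, semJ_smul, smul_smul]
      exact LinearMap.congr_fun h6 v
    exact hx.ne i ((hl i).eq_one_iff hG hE hρ |>.2 h5)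
  -- the group `MM`
  have hMN : θ.range ≤ N := by
    rintro _ ⟨g, rfl⟩
    rw [← hρ.range]
    exact ⟨_, rfl⟩
  have hMne : θ.range ≠ N := by
    intro h
    obtain ⟨i, hi⟩ := hex
    apply hx.ne i
    have h1 : x i ∈ Subgroup.centralizer (N : Set G) := by
      rw [Subgroup.mem_centralizer_iff]
      intro m hm
      exact (hcentn i hi m (by rw [h]; exact hm)).symm
    rw [hE.cent] at h1
    exact Subgroup.mem_bot.1 h1
  have hperf : ⁅θ.range, θ.range⁆ = θ.range := by
    have h1 : commutator ↥(E Q0) = ⊤ := commutator_E hG0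
    rw [commutator_def] at h1
    rw [MonoidHom.range_eq_map θ, ← Subgroup.map_commutator, h1]
  let πL : ↥(E Q0) ⧸ θ.ker →* P Q0 :=
    QuotientGroup.lift θ.ker (QuotientGroup.mk' (Subgroup.center ↥(E Q0))) (fun g hg =>
      (QuotientGroup.eq_one_iff g).2 (hker hg))
  let π : ↥θ.range →* P Q0 := πL.comp (QuotientGroup.quotientKerEquivRange θ).symm.toMonoidHom
  have hπθ : ∀ g, π ⟨θ g, ⟨g, rfl⟩⟩ = QuotientGroup.mk g := by
    intro g
    have h1 : (QuotientGroup.quotientKerEquivRange θ).symm ⟨θ g, ⟨g, rfl⟩⟩ = QuotientGroup.mk g := by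
      rw [MulEquiv.symm_apply_eq]
      rfl
    show πL ((QuotientGroup.quotientKerEquivRange θ).symm ⟨θ g, ⟨g, rfl⟩⟩) = _
    rw [h1]
    rfl
  have hπs : Function.Surjective π := by
    intro y
    obtain ⟨g, rfl⟩ := QuotientGroup.mk_surjective y
    exact ⟨_, hπθ g⟩
  have hπk : π.ker ≤ Subgroup.center ↥θ.range := by
    rintro ⟨_, g, rfl⟩ hm
    rw [MonoidHom.mem_ker, hπθ] at hm
    have h1 : g ∈ Subgroup.center ↥(E Q0) := (QuotientGroup.eq_one_iff g).1 hm
    rw [Subgroup.mem_center_iff]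
    rintro ⟨_, k, rfl⟩
    apply Subtype.ext
    show θ k * θ g = θ g * θ k
    rw [← map_mul, ← map_mul, Subgroup.mem_center_iff.1 h1 k]
  have hnorm : ∀ i, x i ∈ Subgroup.normalizer ((θ.range : Subgroup G) : Set G) := by
    intro i
    rw [Subgroup.mem_normalizer_iff]
    intro m
    constructor
    · rintro ⟨g, rfl⟩
      exact ⟨_, (hconj i g).symm⟩
    · rintro ⟨g, hg⟩
      refine ⟨(conjE Q0 (T i))⁻¹ g, ?_⟩
      have h2 := hconj i ((conjE Q0 (T i))⁻¹ g)
      rw [MulAut.apply_inv_self] at h2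
      exact mul_left_cancel (mul_right_cancel (h2.trans hg))
  have hfP := finite_P (Q := Q0)
  obtain ⟨hs1, hs2, hs3, hs4⟩ := box_id hG0
  have hs4' : ¬ Exc (P Q0) := by
    rcases hs4 with ⟨-, h, -⟩ | h
    · omega
    · exact h
  have hrule := mrule_IH hIH e hMN hMne hperf π hπs hπk hs1 hs2 hs3 hs4' hx hcov hnorm
  -- the element `m0`
  obtain ⟨a0, c0, m0, hm01, hm0, hdet⟩ := exists_m0 hG0
  have hdet' : 4 * Q (semJ φ b a0) * Q (semJ φ b c0) -
      polar Q (semJ φ b a0) (semJ φ b c0) * polar Q (semJ φ b a0) (semJ φ b c0) ≠ 0 := by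
    have h1 : 4 * Q (semJ φ b a0) * Q (semJ φ b c0) -
        polar Q (semJ φ b a0) (semJ φ b c0) * polar Q (semJ φ b a0) (semJ φ b c0) =
        d * d * φ (4 * Q0 a0 * Q0 c0 - polar Q0 a0 c0 * polar Q0 a0 c0) := by
      rw [hQ, hQ, polar_semJ hQ, map_sub, map_mul, map_mul, map_mul, map_ofNat]
      ring
    rw [h1]
    exact mul_ne_zero (mul_ne_zero hd hd) ((map_ne_zero φ).2 hdet)
  obtain ⟨α, β, hsp, hW1, hW2⟩ := split_of_det hdet'
  set W : Submodule F V := Comp α β with hWdef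
  have hWmem : ∀ v, v ∈ W ↔ polar Q (semJ φ b a0) v = 0 ∧ polar Q (semJ φ b c0) v = 0 := by
    intro v
    rw [hWdef, mem_Comp]
    exact ⟨fun h => hW1 v h.1 h.2, fun h => hW2 v h.1 h.2⟩
  have hWnd : Nondeg (Q.comp W.subtype) := nondeg_restr hG.nondeg hsp
  have hWd : Module.finrank F W + 2 = Module.finrank F V := finrank_Comp hsp
  have hWG : Good (Q.comp W.subtype) := OrthFinite.good_of_finite hWnd (by omega)
  have hWt : W ≠ ⊤ := by
    intro h
    rw [h, finrank_top] at hWd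
    omega
  -- `psiE m0` is trivial on `W`
  set g1 : ↥(E Q) := psiE hd hQ m0 with hg1
  have hJ : ∀ u, (g1 : V ≃ₗ[F] V) (semJ φ b u) = semJ φ b ((m0 : (Fin n → F0) ≃ₗ[F0] (Fin n → F0)) u) :=
    fun u => psiE_semJ hd hQ m0 u
  obtain ⟨α0, β0, hsp0, hW01, hW02⟩ := split_of_det hdet
  have hmW : ∀ v ∈ W, (g1 : V ≃ₗ[F] V) v = v := by
    have hf : ((g1 : V ≃ₗ[F] V).toLinearMap - LinearMap.id : V →ₗ[F] V) =
        α.smulRight ((g1 : V ≃ₗ[F] V) (semJ φ b a0) - semJ φ b a0) +
        β.smulRight ((g1 : V ≃ₗ[F] V) (semJ φ b c0) - semJ φ b c0) := by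
      refine lin_ext φ b fun u => ?_
      show (g1 : V ≃ₗ[F] V) (semJ φ b u) - semJ φ b u =
        α (semJ φ b u) • ((g1 : V ≃ₗ[F] V) (semJ φ b a0) - semJ φ b a0) +
        β (semJ φ b u) • ((g1 : V ≃ₗ[F] V) (semJ φ b c0) - semJ φ b c0)
      set u' := u - α0 u • a0 - β0 u • c0 with hu'
      have h1 : α0 u' = 0 := by
        rw [hu', map_sub, map_sub, map_smul, map_smul, hsp0.ax, hsp0.ay]
        simp
      have h2 : β0 u' = 0 := by
        rw [hu', map_sub, map_sub, map_smul, map_smul, hsp0.bx, hsp0.bY]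
        simp
      obtain ⟨h3, h4⟩ := hW01 u' h1 h2
      have h5 : (m0 : (Fin n → F0) ≃ₗ[F0] (Fin n → F0)) u' = u' := hm0 u' h3 h4
      have h6 : semJ φ b u' ∈ W := by
        rw [hWmem, polar_semJ hQ, polar_semJ hQ, h3, h4, map_zero, mul_zero]
        exact ⟨rfl, rfl⟩
      obtain ⟨h7, h8⟩ := mem_Comp.1 h6
      have hu : u = u' + α0 u • a0 + β0 u • c0 := by rw [hu']; abel
      have h9 : semJ φ b u = semJ φ b u' + φ (α0 u) • semJ φ b a0 + φ (β0 u) • semJ φ b c0 := by
        conv_lhs => rw [hu]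
        rw [semJ_add, semJ_add, semJ_smul, semJ_smul]
      have h10 : α (semJ φ b u) = φ (α0 u) := by
        rw [h9, map_add, map_add, map_smul, map_smul, h7, hsp.ax, hsp.ay]
        simp
      have h11 : β (semJ φ b u) = φ (β0 u) := by
        rw [h9, map_add, map_add, map_smul, map_smul, h8, hsp.bx, hsp.bY]
        simp
      rw [h10, h11, h9, map_add, map_add, map_smul, map_smul, hJ u', h5]
      module
    intro v hv
    obtain ⟨h1, h2⟩ := mem_Comp.1 hv
    have h3 := LinearMap.congr_fun hf v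
    have h4 : (g1 : V ≃ₗ[F] V) v - v = α v • ((g1 : V ≃ₗ[F] V) (semJ φ b a0) - semJ φ b a0) +
        β v • ((g1 : V ≃ₗ[F] V) (semJ φ b c0) - semJ φ b c0) := h3
    rw [h1, h2, zero_smul, zero_smul, add_zero] at h4
    exact sub_eq_zero.1 h4
  -- a nonzero vector of `W`
  have hWnt : Nontrivial W := Module.nontrivial_of_finrank_pos (R := F) (by omega)
  obtain ⟨w0, hw0⟩ := exists_ne (0 : W)
  have hw0' : (w0 : V) ≠ 0 := fun h => hw0 (Subtype.ext h)
  have hρg : ρ g1 ≠ 1 := by
    intro h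
    have h1 : g1 ∈ Subgroup.center ↥(E Q) := by rw [← hρ.ker, MonoidHom.mem_ker]; exact h
    obtain ⟨a, -, ha⟩ := scal_of_center hG h1
    have h2 : a = 1 := by
      have h3 := ha w0
      rw [hmW w0 w0.2] at h3
      have h4 : (1 - a) • (w0 : V) = 0 := by rw [sub_smul, one_smul, ← h3, sub_self]
      exact (sub_eq_zero.1 ((smul_eq_zero.1 h4).resolve_right hw0')).symm
    apply hm01
    apply psiE_injective hd hQ
    rw [map_one]
    refine ext_E fun v => ?_
    rw [← hg1, ha v, h2, one_smul]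
    rfl
  -- the element `y` of prime order
  have ho1 : orderOf (ρ g1) ≠ 1 := fun h => hρg (orderOf_eq_one_iff.1 h)
  set p1 := (orderOf (ρ g1)).minFac with hp1
  have hp1p : p1.Prime := Nat.minFac_prime ho1
  obtain ⟨k, hk⟩ : p1 ∣ orderOf (ρ g1) := Nat.minFac_dvd _
  set g2 : ↥(E Q) := g1 ^ k with hg2
  have hρg2 : ρ g2 = ρ g1 ^ k := by rw [hg2, map_pow]
  have hy1 : ρ g2 ^ p1 = 1 := by
    rw [hρg2, ← pow_mul, mul_comm, ← hk, pow_orderOf_eq_one]
  have hy0 : ρ g2 ≠ 1 := by
    intro h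
    rw [hρg2] at h
    have h1 := orderOf_dvd_of_pow_eq_one h
    have hk0 : 0 < k := by
      rcases Nat.eq_zero_or_pos k with h2 | h2
      · rw [h2, mul_zero] at hk
        exact absurd hk (orderOf_pos _).ne'
      · exact h2
    have h2 := Nat.le_of_dvd hk0 h1
    rw [hk] at h2
    have h3 := hp1p.two_le
    nlinarith
  have hg2W : ∀ v ∈ W, (g2 : V ≃ₗ[F] V) v = v := by
    have h1 : ∀ j : ℕ, ∀ v ∈ W, ((g1 ^ j : ↥(E Q)) : V ≃ₗ[F] V) v = v := by
      intro j
      induction j with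
      | zero => intro v _; rfl
      | succ j ih =>
        intro v hv
        rw [pow_succ]
        show ((g1 ^ j : ↥(E Q)) : V ≃ₗ[F] V) ((g1 : V ≃ₗ[F] V) v) = v
        rw [hmW v hv, ih v hv]
    exact h1 k
  have hyM : ρ g2 ∈ θ.range := ⟨m0 ^ k, by rw [hθ, map_pow]⟩
  -- nonlinear lifts are not scalar on `W`
  have hnsc : ∀ i, ¬ IsLin (M i) → ¬ ScalOn (M i) W := by
    rintro i hi ⟨a, ha, h⟩
    apply hi
    obtain ⟨σ, c, hM⟩ := (M i).2
    have hσ : ∀ t, σ t = t := by
      intro t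
      have h1 := h (t • (w0 : V)) (W.smul_mem t w0.2)
      rw [hM.smul, h w0 w0.2, smul_smul, smul_smul] at h1
      have h2 : (a * (σ t - t)) • (w0 : V) = 0 := by
        have h3 : (a * (σ t - t)) • (w0 : V) = (σ t * a) • (w0 : V) - (a * t) • (w0 : V) := by module
        rw [h3, h1, sub_self]
      exact sub_eq_zero.1 ((mul_eq_zero.1 ((smul_eq_zero.1 h2).resolve_right hw0')).resolve_left ha)
    intro t v
    rw [hM.smul, hσ]
  have hWinv : ∀ i, ¬ IsLin (M i) → ∀ v ∈ W, (M i).1 v ∈ W := by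
    intro i hi v hv
    obtain ⟨σ, c, hM⟩ := (M i).2
    obtain ⟨t, ht, h⟩ := hnl i hi
    obtain ⟨h1, h2⟩ := (hWmem v).1 hv
    have h3 := hM.polar (semJ φ b a0) v
    have h4 := hM.polar (semJ φ b c0) v
    rw [h, h1, map_zero, mul_zero, polar_smul_left, smul_eq_mul] at h3
    rw [h, h2, map_zero, mul_zero, polar_smul_left, smul_eq_mul] at h4
    exact (hWmem _).2 ⟨(mul_eq_zero.1 h3).resolve_left ht, (mul_eq_zero.1 h4).resolve_left ht⟩
  -- the new cover
  let J := {i : ι // ¬ IsLin (M i)}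
  let x' : Option J → G := fun o => o.elim (ρ g2) fun i => x i
  let M' : Option J → Gam Q := fun o => o.elim (tg Q g2) fun i => M i
  let r' : Option J → ℕ := fun o => o.elim p1 fun i => r i
  have hscn : ScalOn (M' none) W := ⟨1, one_ne_zero, fun v hv => by
    rw [one_smul]
    exact hg2W v hv⟩
  have hcard : Nat.card (P (Q.comp W.subtype)) < Nat.card S := by
    have h1 := box_card hG W hWG hWt
    have h2 : Nat.card (P Q) = Nat.card N := by
      let ρN : ↥(E Q) →* N := ρ.codRestrict N fun t => by rw [← hρ.range]; exact ⟨t, rfl⟩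
      have h3 : Function.Surjective ρN := by
        rintro ⟨m, hm⟩
        have hm' := hm
        rw [← hρ.range] at hm'
        obtain ⟨t, ht⟩ := hm'
        exact ⟨t, Subtype.ext ht⟩
      have h4 : ρN.ker = Subgroup.center ↥(E Q) := by
        rw [← hρ.ker]
        ext t
        rw [MonoidHom.mem_ker, MonoidHom.mem_ker]
        exact ⟨fun h => congrArg Subtype.val h, fun h => Subtype.ext h⟩
      exact Nat.card_congr ((QuotientGroup.quotientMulEquivOfEq h4.symm).trans
        (QuotientGroup.quotientKerEquivOfSurjective ρN h3)).toEquiv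
    rw [h2, Nat.card_congr e.toEquiv] at h1
    exact h1
  have hRC : RC (P (Q.comp W.subtype)) := by
    have hfPW := finite_P (Q := Q.comp W.subtype)
    obtain ⟨k1, k2, k3, k4⟩ := box_id hWG
    refine hIH _ k1 k2 k3 ?_ hcard
    rcases k4 with ⟨h1, -, -⟩ | h1
    · exfalso
      have h2 : Nat.card F0 < Nat.card F := by
        rcases lt_or_eq_of_le (Nat.card_le_card_of_injective φ φ.injective) with h | h
        · exact h
        · exact absurd ((Nat.bijective_iff_injective_and_card φ).2 ⟨φ.injective, h⟩).2 hφ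
      have h3 : 1 < Nat.card F0 := Finite.one_lt_card
      omega
    · exact h1
  obtain ⟨u, w, hu, hw, huw, hu0, hind⟩ := exists_plane hWG
  have hu' : Q (u : V) = 0 := hu
  have hw' : Q (w : V) = 0 := hw
  have huw' : polar Q (u : V) w = 0 := huw
  refine not_cov_W hG hE hρ hWnd (g := g2) hg2W (fun h => hy0 (by rw [h, map_one])) u.2 w.2 hu' hw' huw'
    (fun h => hu0 (Subtype.ext h)) (fun a h => hind a (Subtype.ext h)) fun ω => ?_
  have hfin := mrule_W (x := x') (M := M') (r := r') (Ω := Ω) hG hρ ?_ ?_ ?_ ?_ ?_ hWG hWt ?_ ?_ ?_ (Or.inl hRC) ω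
  rcases hfin with
    h | ⟨j, hj, hjω⟩
  · right
    have h1 : ρ (AutOrth.SemiSim.sg Q (u : V) w hu' huw') ∈ (phi ρ hWG.nondeg).range :=
      ⟨AutOrth.SemiSim.sg (Q.comp W.subtype) u w hu huw, by rw [phi_apply, extE_sg hWG.nondeg hu huw hu' huw']⟩
    exact h h1
  · left
    rcases j with _ | j
    · exact hjω
    · exact absurd hj (hnsc j j.2)
  · rintro (_ | i)
    · exact Lf.tg g2
    · exact hl i
  · rintro (_ | i)
    · exact hp1p
    · exact hx.prime i
  · rintro (_ | i)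
    · exact hy1
    · exact hx.pow i
  · rintro (_ | i) (_ | j)
    · rfl
    · exact (hcentn j j.2 _ hyM).symm
    · exact hcentn i i.2 _ hyM
    · exact hx.comm i j
  · intro ω
    rcases hrule ω with h | ⟨j, hj, hjω⟩
    · exact ⟨none, h hyM⟩
    · exact ⟨some ⟨j, hcentl j hj⟩, hjω⟩
  · rintro (_ | i) v hv
    · show (g2 : V ≃ₗ[F] V) v ∈ W
      rw [hg2W v hv]
      exact hv
    · exact hWinv i i.2 v hv
  · obtain ⟨i, hi⟩ := hex
    exact ⟨some ⟨i, hi⟩, hnsc i hi⟩
  · rintro (_ | i) hi (_ | j) hj hij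
    · rfl
    · exact absurd hscn hi
    · exact absurd hscn hj
    · exact congrArg some (Subtype.ext (hx.inj hij))

end Cfsg.Agent.H236.RC
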