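import Cfsg.Agent.H93.RC.Defs
import Cfsg.Agent.H106.RC.Ari
import Cfsg.Agent.GenOrth.Normal
import Cfsg.Agent.AutOrth.Main
import Cfsg.Agent.ClassicalGeometry.OrthSemiForms
import Cfsg.Agent.S0243
import Cfsg.Agent.S0245
import Cfsg.Agent.S0246
import Cfsg.Agent.S0280
import Cfsg.Agent.S0301
import Cfsg.Agent.S0302
import Cfsg.Agent.S0303

/-!
# S3510, row F: identification of the orthogonal groups of dimension at least 5 (helper236)

* `eEquiv`, `pEquiv` : a bijective similarity induces isomorphisms `E Q' ≃* E Q`, `P Q' ≃* P Q`;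
* `box_card` : `|P(Q|W)| < |P Q|` for a proper good subspace;
* `box_id` : `P Q` is simple classical, not `A₅`, `A₆`, `A₈` unless `Q = Ω₆⁺(2)`.
-/

set_option autoImplicit false
set_option linter.unusedSectionVars false

open Cfsg

namespace Cfsg.Agent.H236.RC

open QuadraticMap MulAction
open Cfsg.Agent.LieClassical.OrthCore Cfsg.Agent.LieClassical.OrthTrans
open Cfsg.Agent.LieClassical.OrthSimple Cfsg.Agent.ClassicalGeometry.OrthSemi
open Cfsg.Agent.ClassicalGeometry.OrthAut1 Cfsg.Agent.H106.RC Cfsg.Agent.ClassicalGeometry.OrthSemiForms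
open Cfsg.Agent.LieClassical.QuadForms Cfsg.Agent.LieClassical.OrthFinite

section emb

variable {F V V' : Type*} [Field F] [AddCommGroup V] [Module F V] [AddCommGroup V'] [Module F V']
  {Q : QuadraticForm F V} {Q' : QuadraticForm F V'}

/-- a bijective similarity as an embedding -/
noncomputable def embOf (j : V' ≃ₗ[F] V) {c : F} (hc : c ≠ 0) (h : ∀ x, Q (j x) = c * Q' x) (nd : Nondeg Q') :
    GenOrth.Emb Q Q' where
  j := j.toLinearMap
  π := j.symm.toLinearMap
  c := c
  hc := hc
  hQ := h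
  adj x v := by
    obtain ⟨w, rfl⟩ := j.surjective v
    show polar Q (j x) (j w) = c * polar Q' x (j.symm (j w))
    rw [LinearEquiv.symm_apply_apply]
    simp only [polar, ← map_add, h]
    ring
  nd := nd

theorem nondeg_of_sim (j : V' ≃ₗ[F] V) {c : F} (hc : c ≠ 0) (h : ∀ x, Q (j x) = c * Q' x) (nd : Nondeg Q') :
    Nondeg Q := by
  intro x hx
  obtain ⟨x, rfl⟩ := j.surjective x
  rw [nd x, map_zero]
  intro y
  have h1 := hx (j y)
  simp only [polar, ← map_add, h] at h1
  have h2 : c * polar Q' x y = 0 := by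
    simp only [polar]
    linear_combination h1
  exact (mul_eq_zero.1 h2).resolve_left hc

/-- a bijective similarity induces an isomorphism of the groups `E` -/
noncomputable def eEquiv (j : V' ≃ₗ[F] V) {c : F} (hc : c ≠ 0) (h : ∀ x, Q (j x) = c * Q' x) (nd : Nondeg Q') :
    ↥(E Q') ≃* ↥(E Q) :=
  MulEquiv.ofBijective (embOf j hc h nd).extE ⟨(embOf j hc h nd).extE_injective, by
    intro g
    have h' : ∀ x, Q' (j.symm x) = c⁻¹ * Q x := by
      intro x
      obtain ⟨y, rfl⟩ := j.surjective x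
      rw [LinearEquiv.symm_apply_apply, h, inv_mul_cancel_left₀ hc]
    have nd' := nondeg_of_sim j hc h nd
    refine ⟨(embOf j.symm (inv_ne_zero hc) h' nd').extE g, ?_⟩
    apply Subtype.ext
    rw [GenOrth.Emb.extE_coe, GenOrth.Emb.extE_coe]
    ext v
    rw [GenOrth.Emb.ext_apply, GenOrth.Emb.ext_apply]
    show v + j ((j.symm v + j.symm (g.1 (j (j.symm v)) - j (j.symm v))) - j.symm v) = g.1 v
    rw [add_sub_cancel_left, LinearEquiv.apply_symm_apply, LinearEquiv.apply_symm_apply]
    abel⟩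

/-- a bijective similarity induces an isomorphism of the groups `P` -/
noncomputable def pEquiv (j : V' ≃ₗ[F] V) {c : F} (hc : c ≠ 0) (h : ∀ x, Q (j x) = c * Q' x) (nd : Nondeg Q') :
    P Q' ≃* P Q := quotientCenterCongr (eEquiv j hc h nd)

end emb

section card

variable {F V : Type} [Field F] [AddCommGroup V] [Module F V] [FiniteDimensional F V]
  {Q : QuadraticForm F V}

/-- the orthogonal projection onto a nondegenerate subspace -/
theorem exists_emb (W : Submodule F V) (hW : Nondeg (Q.comp W.subtype)) :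
    ∃ e : GenOrth.Emb Q (Q.comp W.subtype), ∀ w : W, e.j w = w := by
  let B : W →ₗ[F] Module.Dual F W := polarBilin (Q.comp W.subtype)
  have hB : Function.Injective B := by
    rw [injective_iff_map_eq_zero]
    intro w hw
    exact hW w fun y => LinearMap.congr_fun hw y
  let b : W ≃ₗ[F] Module.Dual F W := LinearMap.linearEquivOfInjective B hB Subspace.dual_finrank_eq.symm
  have hb : ∀ w y, b w y = polar Q (w : V) (y : V) := by
    intro w y
    show B w y = _
    show polar (Q.comp W.subtype) w y = _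
    simp only [polar, QuadraticMap.comp_apply, map_add, Submodule.subtype_apply]
  have key : ∀ (x : W) (v : V), polar Q (x : V) v =
      1 * polar (Q.comp W.subtype) x (b.symm (W.subtype.dualMap (polarBilin Q v))) := by
    intro x v
    have h1 : b (b.symm (W.subtype.dualMap (polarBilin Q v))) x = polar Q v (x : V) := by
      rw [LinearEquiv.apply_symm_apply]
      rfl
    rw [hb] at h1
    rw [one_mul, polar_comm, ← h1, polar_comm]
    simp only [polar, QuadraticMap.comp_apply, map_add, Submodule.subtype_apply]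
  exact ⟨{ j := W.subtype
           π := b.symm.toLinearMap ∘ₗ W.subtype.dualMap ∘ₗ (polarBilin Q)
           c := 1
           hc := one_ne_zero
           hQ := fun x => by rw [one_mul]; rfl
           adj := fun x v => key x v
           nd := hW }, fun w => rfl⟩

variable [Finite F]

theorem finite_E : Finite ↥(E Q) := by
  have h1 : Finite V := Module.finite_of_finite F
  have h2 : Finite (V ≃ₗ[F] V) := Finite.of_injective (fun f => (f : V → V)) DFunLike.coe_injective
  infer_instance

theorem finite_P : Finite (P Q) := by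
  have h1 := finite_E (Q := Q)
  exact Finite.of_surjective _ (QuotientGroup.mk'_surjective (Subgroup.center ↥(E Q)))

/-- **The groups of proper good subspaces are smaller.** -/
theorem box_card (hG : Good Q) (W : Submodule F V)
    (hW : Good (Q.comp W.subtype)) (hWt : W ≠ ⊤) :
    Nat.card (P (Q.comp W.subtype)) < Nat.card (P Q) := by
  obtain ⟨e, he⟩ := exists_emb W hW.nondeg
  have hf1 := finite_E (Q := Q)
  have hf2 := finite_E (Q := Q.comp W.subtype)
  have hf3 := finite_P (Q := Q)
  have hf4 := finite_P (Q := Q.comp W.subtype)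
  -- a vector orthogonal to `W`
  obtain ⟨v, hv0, hv⟩ : ∃ v : V, v ≠ 0 ∧ e.π v = 0 := by
    by_contra hcon
    push Not at hcon
    have h1 : Function.Injective e.π := by
      rw [injective_iff_map_eq_zero]
      intro v hv
      by_contra h0
      exact hcon v h0 hv
    have h2 := LinearMap.finrank_le_finrank_of_injective h1
    exact hWt (Submodule.eq_top_of_finrank_eq (le_antisymm (Submodule.finrank_le W) h2))
  let f : ↥(E (Q.comp W.subtype)) →* P Q := (QuotientGroup.mk' _).comp e.extE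
  have hf : Function.Injective f := by
    rw [injective_iff_map_eq_one]
    intro g hg
    have h1 : e.extE g ∈ Subgroup.center ↥(E Q) := (QuotientGroup.eq_one_iff _).1 hg
    obtain ⟨a, ha⟩ := center_scalar hG h1
    have h2 := ha v
    rw [GenOrth.Emb.extE_coe, e.ext_of_π_eq_zero _ hv] at h2
    have h3 : a = 1 := by
      have h4 : (1 - a) • v = 0 := by
        rw [sub_smul, one_smul, ← h2, sub_self]
      exact (sub_eq_zero.1 ((smul_eq_zero.1 h4).resolve_right hv0)).symm
    apply e.extE_injective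
    rw [map_one]
    apply Subtype.ext
    ext w
    rw [ha w, h3, one_smul]
    rfl
  have h1 : Nat.card (P (Q.comp W.subtype)) ≤ Nat.card ↥(E (Q.comp W.subtype)) :=
    Nat.card_le_card_of_surjective _ (QuotientGroup.mk'_surjective (Subgroup.center ↥(E (Q.comp W.subtype))))
  have h2 : Nat.card ↥(E (Q.comp W.subtype)) ≤ Nat.card (P Q) := Nat.card_le_card_of_injective f hf
  refine lt_of_le_of_ne (h1.trans h2) fun heq => ?_
  have h3 : Nat.card ↥(E (Q.comp W.subtype)) = Nat.card (P Q) := le_antisymm h2 (heq ▸ h1)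
  have hfs : Function.Surjective f := ((Nat.bijective_iff_injective_and_card f).2 ⟨hf, h3⟩).2
  -- every element of `E Q` preserves `W`
  have hinv : ∀ g ∈ E Q, ∀ w : W, g w ∈ W := by
    intro g hg w
    obtain ⟨k, hk⟩ := hfs (QuotientGroup.mk (⟨g, hg⟩ : ↥(E Q)))
    have h4 : (e.extE k)⁻¹ * ⟨g, hg⟩ ∈ Subgroup.center ↥(E Q) := QuotientGroup.eq.1 hk
    obtain ⟨a, ha⟩ := center_scalar hG h4
    have h5 := ha w
    have h6 : g w = e.ext k (a • (w : V)) := by
      rw [← h5]
      show g w = e.ext k (((e.extE k)⁻¹ * ⟨g, hg⟩ : ↥(E Q)).1 w)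
      have h7 : e.ext k * ((e.extE k)⁻¹ * ⟨g, hg⟩ : ↥(E Q)).1 = g := by
        rw [← GenOrth.Emb.extE_coe, ← Subgroup.coe_mul, mul_inv_cancel_left]
      exact (LinearEquiv.congr_fun h7 (w : V)).symm
    rw [h6, map_smul, ← he w, e.ext_j, he]
    exact W.smul_mem a (k.1 w).2
  obtain ⟨x, y, hxy⟩ := hW.exists_hyp
  have hx : Q (x : V) = 0 := hxy.left
  have hy : Q (y : V) = 0 := hxy.right
  have hp : polar Q (x : V) (y : V) = 1 := by
    have := hxy.pair
    simpa only [polar, QuadraticMap.comp_apply, map_add, Submodule.subtype_apply] using this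
  have hpv : ∀ w : W, polar Q (w : V) v = 0 := by
    intro w
    have := e.adj w v
    rw [hv, polar_zero_right, mul_zero, he] at this
    exact this
  have hvW : v ∉ W := by
    intro h
    have h4 := e.π_j ⟨v, h⟩
    rw [he] at h4
    have h5 : (⟨v, h⟩ : W) = 0 := by rw [← h4]; exact hv
    exact hv0 (congrArg Subtype.val h5)
  set u : V := (x : V) + v - Q v • (y : V) with hu
  have huW : u ∉ W := by
    intro h
    apply hvW
    have : v = u - (x : V) + Q v • (y : V) := by rw [hu]; abel
    rw [this]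
    exact W.add_mem (W.sub_mem h x.2) (W.smul_mem _ y.2)
  have hu0 : Q u = 0 := by
    have e1 : ∀ a b : V, Q (a + b) = Q a + Q b + polar Q a b := fun a b => by
      rw [QuadraticMap.polar]; ring
    have e2 : u = ((x : V) + v) + (-(Q v)) • (y : V) := by rw [hu, neg_smul]; abel
    rw [e2, e1, e1, hx, QuadraticMap.map_smul, hy, polar_add_left, polar_smul_right, polar_smul_right, hp,
      polar_comm Q v y, hpv y, hpv x]
    simp
  have hune : u ≠ 0 := fun h => huW (h ▸ W.zero_mem)
  have hx0 : (x : V) ≠ 0 := by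
    intro h
    rw [h, polar_zero_left] at hp
    exact zero_ne_one hp
  obtain ⟨g, hg, hgx⟩ := hG.trans_sing hx hu0 hx0 hune
  exact huW (hgx ▸ hinv g hg x)

end card

section ident

variable {F V : Type} [Field F] [Finite F] [AddCommGroup V] [Module F V] [FiniteDimensional F V]
  {Q : QuadraticForm F V}

/-- an odd-dimensional nondegenerate form: the characteristic is odd -/
theorem two_ne_of_odd {k : ℕ} (hQ : Nondeg Q) {c : F} (j : (Unit ⊕ (Fin k ⊕ Fin k) → F) ≃ₗ[F] V)
    (h : ∀ x, Q (j x) = c * oddForm k F x) : (2 : F) ≠ 0 := by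
  intro h2
  have h0 : (Sum.elim (fun _ => 1) (fun _ => 0) : Unit ⊕ (Fin k ⊕ Fin k) → F) ≠ 0 := by
    intro h0
    have := congrFun h0 (.inl ())
    simp at this
  apply h0
  apply j.injective
  rw [map_zero]
  apply hQ
  intro y
  obtain ⟨y, rfl⟩ := j.surjective y
  have h1 : polar Q (j (Sum.elim (fun _ => 1) (fun _ => 0))) (j y) =
      c * polar (oddForm k F) (Sum.elim (fun _ => 1) (fun _ => 0)) y := by
    simp only [polar, ← map_add, h]
    ring
  rw [h1, polar_oddForm, h2, zero_mul, zero_add]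
  have h3 : (fun i => (Sum.elim (fun _ => 1) (fun _ => 0) : Unit ⊕ (Fin k ⊕ Fin k) → F) (Sum.inr i)) = 0 := rfl
  rw [h3, polar_zero_left, mul_zero]

theorem exists_field_sq (F : Type) [Field F] [Fintype F] :
    ∃ (K : Type) (_ : Field K) (_ : Fintype K), Fintype.card K = Fintype.card F ^ 2 := by
  obtain ⟨p, hp⟩ := CharP.exists F
  have : Fact p.Prime := ⟨CharP.char_is_prime F p⟩
  obtain ⟨n, -, hn⟩ := FiniteField.card F p
  have hn0 : (n : ℕ) ≠ 0 := n.pos.ne'
  have : Fintype (GaloisField p (n * 2)) := Fintype.ofFinite _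
  refine ⟨GaloisField p (n * 2), inferInstance, inferInstance, ?_⟩
  rw [← Nat.card_eq_fintype_card, GaloisField.card p _ (by omega), hn, pow_mul]

theorem Exc.congr {S S' : Type*} [Group S] [Group S'] (e : S ≃* S') (h : Exc S) : Exc S' := by
  rcases h with ⟨⟨f⟩⟩ | ⟨⟨f⟩⟩ | ⟨⟨f⟩⟩
  · exact Or.inl ⟨e.symm.trans f⟩
  · exact Or.inr (Or.inl ⟨e.symm.trans f⟩)
  · exact Or.inr (Or.inr ⟨e.symm.trans f⟩)

/-- **Identification**: the names of the groups `P Q`, `dim V ≥ 5`. -/
theorem ident [Fintype F] (hG : Good Q) :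
    (Module.finrank F V = 5 ∧ Odd (Fintype.card F) ∧ Nonempty (P Q ≃* PSp 2 F)) ∨
    (Module.finrank F V = 6 ∧ (∃ c : F, c ≠ 0 ∧ ∃ j : (Fin 3 ⊕ Fin 3 → F) ≃ₗ[F] V, ∀ x, Q (j x) = c * quadFormPlus 3 F x) ∧
      Nonempty (P Q ≃* Matrix.ProjectiveSpecialLinearGroup (Fin 4) F)) ∨
    (Module.finrank F V = 6 ∧ ∃ (K : Type) (_ : Field K) (_ : Fintype K), Fintype.card K = Fintype.card F ^ 2 ∧
      Nonempty (P Q ≃* PSU 4 K (Fintype.card F))) ∨
    (∃ k, 3 ≤ k ∧ Module.finrank F V = 2 * k + 1 ∧ Odd (Fintype.card F) ∧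
      Nonempty (P Q ≃* POmega F (quadFormOdd k F))) ∨
    (∃ k, 4 ≤ k ∧ Module.finrank F V = 2 * k ∧ Nonempty (P Q ≃* POmega F (quadFormPlus k F))) ∨
    (∃ k, 4 ≤ k ∧ Module.finrank F V = 2 * k ∧ ∃ a b : F,
      (∀ z₁ z₂ : F, z₁ ^ 2 + a * z₁ * z₂ + b * z₂ ^ 2 = 0 → z₁ = 0 ∧ z₂ = 0) ∧
      Nonempty (P Q ≃* POmega F (quadFormMinus (k - 1) F a b))) := by
  have hd := hG.dim
  rcases GenOrth.normal_form _ hG.nondeg rfl with ⟨k, hk, c, hc, j, hj⟩ | ⟨k, hk, c, hc, j, hj⟩ |
    ⟨k, hk, a, b, hab, c, hc, j, hj⟩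
  · rw [← coe_oddForm] at hj
    have h2 := two_ne_of_odd hG.nondeg j hj
    have hGo : Good (oddForm k F) := AutOrth.Main.good_odd (by omega) h2
    have hodd : Odd (Fintype.card F) := by
      refine Nat.odd_iff.2 (FiniteField.odd_card_of_char_ne_two fun h => h2 ?_)
      have := ringChar.Nat.cast_ringChar (R := F)
      rw [h] at this
      exact_mod_cast this
    have e1 : POmega F (quadFormOdd k F) ≃* P (oddForm k F) := by
      rw [← coe_oddForm]
      exact pomegaEquiv hGo
    have e := (e1.trans (pEquiv j hc hj hGo.nondeg)).symm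
    by_cases h3 : k = 2
    · subst h3
      obtain ⟨e2⟩ := S0301.result (F := F) hodd
      exact Or.inl ⟨by omega, hodd, ⟨e.trans e2⟩⟩
    · exact Or.inr (Or.inr (Or.inr (Or.inl ⟨k, by omega, hk, hodd, ⟨e⟩⟩)))
  · have hGo : Good (plusForm k F) := AutOrth.Main.good_plus (by omega)
    have e1 : POmega F (quadFormPlus k F) ≃* P (plusForm k F) := by
      rw [← coe_plusForm]
      exact pomegaEquiv hGo
    have hj' := hj
    rw [← coe_plusForm] at hj'
    have e := (e1.trans (pEquiv j hc hj' hGo.nondeg)).symm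
    by_cases h3 : k = 3
    · subst h3
      obtain ⟨e2⟩ := S0302.result (F := F)
      exact Or.inr (Or.inl ⟨by omega, ⟨c, hc, j, hj⟩, ⟨e.trans e2⟩⟩)
    · exact Or.inr (Or.inr (Or.inr (Or.inr (Or.inl ⟨k, by omega, hk, ⟨e⟩⟩))))
  · have hGo : Good (minusForm k F a b) := AutOrth.Main.good_minus (by omega) hab
    have e1 : POmega F (quadFormMinus k F a b) ≃* P (minusForm k F a b) := by
      rw [← coe_minusForm]
      exact pomegaEquiv hGo
    rw [← coe_minusForm] at hj
    have e := (e1.trans (pEquiv j hc hj hGo.nondeg)).symm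
    by_cases h3 : k = 2
    · subst h3
      obtain ⟨K, _, _, hK⟩ := exists_field_sq F
      obtain ⟨e2⟩ := S0303.result (F := F) (K := K) rfl hK a b hab
      exact Or.inr (Or.inr (Or.inl ⟨by omega, K, _, _, hK, ⟨e.trans e2⟩⟩))
    · exact Or.inr (Or.inr (Or.inr (Or.inr (Or.inr ⟨k + 1, by omega, by omega, a, b, hab, ⟨e⟩⟩))))

/-- **BOX F3.** -/
theorem box_id (hG : Good Q) :
    IsSimpleGroup (P Q) ∧ ¬ IsMulCommutative (P Q) ∧ Cl (P Q) ∧
      ((Nat.card F = 2 ∧ Module.finrank F V = 6 ∧
        ∃ U : Submodule F V, (∀ v ∈ U, Q v = 0) ∧ Module.finrank F U = 3) ∨ ¬ Exc (P Q)) := by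
  let _ := Fintype.ofFinite F
  have hs : IsSimpleGroup (P Q) := good_isSimpleGroup hG
  have hc : commutator (P Q) = ⊤ := by
    have h2 := commutator_E hG
    have hsurj : Function.Surjective (QuotientGroup.mk' (Subgroup.center ↥(E Q))) :=
      QuotientGroup.mk'_surjective _
    have := congrArg (Subgroup.map (QuotientGroup.mk' (Subgroup.center ↥(E Q)))) h2
    rw [commutator_def, Subgroup.map_commutator, Subgroup.map_top_of_surjective _ hsurj] at this
    exact this
  refine ⟨hs, ?_, ?_⟩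
  · intro h
    have h1 : commutator (P Q) = ⊥ := by
      rw [commutator_eq_bot_iff_center_eq_top, Subgroup.eq_top_iff']
      intro x
      rw [Subgroup.mem_center_iff]
      exact fun y => h.is_comm.comm y x
    rw [hc] at h1
    exact top_ne_bot h1
  have hq : 1 < Fintype.card F := Fintype.one_lt_card
  rcases ident hG with ⟨-, hodd, ⟨e⟩⟩ | ⟨hd, ⟨c, hc0, j, hj⟩, ⟨e⟩⟩ | ⟨-, K, _, _, hK, ⟨e⟩⟩ | ⟨k, hk, -, hodd, ⟨e⟩⟩ |
    ⟨k, hk, -, ⟨e⟩⟩ | ⟨k, hk, -, a, b, hab, ⟨e⟩⟩
  · have h3 : 3 ≤ Fintype.card F := by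
      rcases hodd with ⟨t, ht⟩
      omega
    exact ⟨Or.inr (Or.inl ⟨F, inferInstance, inferInstance, 2, le_rfl, fun _ => h3, ⟨e⟩⟩),
      Or.inr fun h => psp_not_exc (F := F) le_rfl (fun _ => h3) (Exc.congr e h)⟩
  · refine ⟨Or.inl ⟨F, inferInstance, inferInstance, 4, by norm_num, fun h => absurd h (by norm_num), ⟨e⟩⟩, ?_⟩
    by_cases h2 : Fintype.card F = 2
    · left
      refine ⟨by rw [Nat.card_eq_fintype_card, h2], hd, ?_⟩
      let ι : (Fin 3 → F) →ₗ[F] (Fin 3 ⊕ Fin 3 → F) :=
        { toFun := fun v => Sum.elim v 0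
          map_add' := fun u v => by
            funext i
            rcases i with i | i <;> simp
          map_smul' := fun a v => by
            funext i
            rcases i with i | i <;> simp }
      have hι : Function.Injective ι := by
        intro u v h
        funext i
        exact congrFun h (.inl i)
      refine ⟨LinearMap.range (j.toLinearMap ∘ₗ ι), ?_, ?_⟩
      · rintro _ ⟨v, rfl⟩
        show Q (j (ι v)) = 0
        rw [hj, ← coe_plusForm, plusForm_apply]
        refine mul_eq_zero_of_right _ (Finset.sum_eq_zero fun i _ => ?_)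
        show v i * 0 = 0
        rw [mul_zero]
      · have hji : Function.Injective (j.toLinearMap ∘ₗ ι) := fun u v h => hι (j.injective h)
        rw [LinearMap.finrank_range_of_inj hji, Module.finrank_fin_fun]
    · right
      intro h
      rcases psl_exc (F := F) (by norm_num) (Exc.congr e h) with ⟨h4, -⟩ | ⟨-, h4⟩
      · exact absurd h4 (by norm_num)
      · exact h2 h4
  · exact ⟨Or.inr (Or.inr (Or.inl ⟨K, inferInstance, inferInstance, 4, Fintype.card F, hK, by norm_num,
      fun h => absurd h.1 (by norm_num), ⟨e⟩⟩)),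
      Or.inr fun h => psu_not_exc hK (by norm_num) (fun h => absurd h.1 (by norm_num)) (Exc.congr e h)⟩
  · exact ⟨Or.inr (Or.inr (Or.inr (Or.inl ⟨F, inferInstance, inferInstance, k, hk, hodd, ⟨e⟩⟩))),
      Or.inr fun h => pomegaOdd_not_exc hk hodd (Exc.congr e h)⟩
  · exact ⟨Or.inr (Or.inr (Or.inr (Or.inr (Or.inl ⟨F, inferInstance, inferInstance, k, hk, ⟨e⟩⟩)))),
      Or.inr fun h => pomegaPlus_not_exc hk (Exc.congr e h)⟩
  · exact ⟨Or.inr (Or.inr (Or.inr (Or.inr (Or.inr ⟨F, inferInstance, inferInstance, k, a, b, hk, hab, ⟨e⟩⟩)))),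
      Or.inr fun h => pomegaMinus_not_exc hk a b hab (Exc.congr e h)⟩

end ident

end Cfsg.Agent.H236.RC
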